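import Mathlib
import Cfsg.Agent.Helper71.BSW.Defs

/-!
# S3282 piece (D3) for helper71: the conclusion in the plus case
-/

set_option autoImplicit false
set_option linter.unusedVariables false

namespace Cfsg.Agent.Helper66.BSW

open Cfsg.Agent.Helper71.BSW

theorem d_concl_plus {G : Type*} [Group G] [Finite G] {t s : G} {K : Subgroup G} {q d : ℕ}
    (c : Ctx t s K q d) (A0 : FactsA0 t s K) (A1 : FactsA1 t s K)
    (B : FactsB t s K q d) (C : FactsC t s K q d) (hq : q = 2 * Nat.card K + 1)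
    (hN : ∃ z : G, z ≠ 1 ∧ (orderOf z).Coprime (2 * Nat.card K * d) ∧
      Subgroup.normalizer ((Subgroup.centralizer ({z} : Set G) : Subgroup G) : Set G) =
        Subgroup.centralizer ({z} : Set G) ⊔ K) :
    Concl G := by
  obtain ⟨z, hz, hzc, hNQ⟩ := hN
  have hQ : Nat.card (Subgroup.centralizer ({z} : Set G)) = q := B.card_cent_Q z hz hzc
  have hdk : d = Nat.card K + 1 := by
    rcases c.sign with ⟨-, h2⟩ | ⟨h1, -⟩
    · exact h2
    · omega
  have hcard := c.card
  have hyp := c.hyp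
  -- every nontrivial subgroup of `K` has normalizer `C(t)`
  have hnorm : ∀ X : Subgroup G, X ≤ K → X ≠ ⊥ →
      Subgroup.normalizer (X : Set G) = Subgroup.centralizer ({t} : Set G) := by
    intro X hX hXne
    apply le_antisymm (A0.normalizer_le_cent_t X hX hXne)
    have key : ∀ g ∈ Subgroup.centralizer ({t} : Set G), ∀ h ∈ X, g * h * g⁻¹ ∈ X := by
      intro g hg h hh
      rcases A0.mem_cent_t_cases g hg with hgK | ⟨x₀, hx₀, rfl⟩
      · have hc := hyp.hKab g hgK h (hX hh)
        have : g * h * g⁻¹ = h := by rw [hc, mul_assoc, mul_inv_cancel, mul_one]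
        rw [this]; exact hh
      · rw [A0.s_mul_inverts x₀ hx₀ h (hX hh)]
        exact inv_mem hh
    intro g hg
    rw [Subgroup.mem_normalizer_iff]
    intro h
    constructor
    · exact key g hg h
    · intro hgh
      have := key g⁻¹ (inv_mem hg) _ hgh
      have e : g⁻¹ * (g * h * g⁻¹) * g⁻¹⁻¹ = h := by group
      rwa [e] at this
  have ht1 : t ≠ 1 := by
    intro h
    have := hyp.ht
    rw [h, orderOf_one] at this
    omega
  have hKne : K ≠ ⊥ := by
    intro h
    have := hyp.htK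
    rw [h, Subgroup.mem_bot] at this
    exact ht1 this
  refine ⟨Subgroup.centralizer ({z} : Set G), K, ?_, ?_, ?_, ?_, ?_, hNQ, ?_⟩
  · rw [hQ, hcard, hdk, hq]
    have e : 2 * Nat.card K + 1 - 1 = 2 * Nat.card K := by omega
    rw [e]
    ring
  · intro x hx hx1
    exact (C.cent_Q_eq z x hz hzc hx hx1).2
  · exact ⟨⟨fun a b => Subtype.ext (hyp.hKab a a.2 b b.2)⟩⟩
  · rw [hQ, hq]
  · apply Disjoint.eq_bot
    apply Subgroup.disjoint_of_coprime_natCard
    rw [hQ]
    exact Nat.Coprime.coprime_mul_left_right B.arith.2.2.1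
  · intro X hX hXne
    refine ⟨?_, s, hyp.hs, hyp.hsK, hyp.hinv, ?_⟩
    · rw [hnorm X hX hXne, hnorm K le_rfl hKne]
    · rw [hnorm K le_rfl hKne, hyp.hH]

end Cfsg.Agent.Helper66.BSW
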