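import Mathlib
import Cfsg.Agent.Helper71.BSW.Defs

/-!
# S3282 piece (D4) for helper71: the conclusion in the minus case
-/

set_option autoImplicit false
set_option linter.unusedVariables false

namespace Cfsg.Agent.Helper66.BSW

open Cfsg.Agent.Helper71.BSW

theorem d_concl_minus {G : Type*} [Group G] [Finite G] {t s : G} {K : Subgroup G} {q d : ℕ}
    (c : Ctx t s K q d) (A0 : FactsA0 t s K) (A1 : FactsA1 t s K)
    (B : FactsB t s K q d) (C : FactsC t s K q d) (hq : q + 1 = 2 * Nat.card K)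
    (hN : ∃ z y : G, z ≠ 1 ∧ (orderOf z).Coprime (2 * Nat.card K * d) ∧ y ≠ 1 ∧
      (orderOf y).Coprime (2 * Nat.card K * q) ∧
      Subgroup.normalizer ((Subgroup.centralizer ({z} : Set G) : Subgroup G) : Set G) =
        Subgroup.centralizer ({z} : Set G) ⊔ Subgroup.centralizer ({y} : Set G)) :
    Concl G := by
  obtain ⟨z, y, hz, hzc, hy, hyc, hNQ⟩ := hN
  have hQ : Nat.card (Subgroup.centralizer ({z} : Set G)) = q := B.card_cent_Q z hz hzc
  obtain ⟨hD, u, hu2, hinv⟩ := B.card_cent_D y hy hyc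
  have hdk : d + 1 = Nat.card K := by
    rcases c.sign with ⟨h1, -⟩ | ⟨-, h2⟩
    · omega
    · exact h2
  have hcard := c.card
  obtain ⟨hunot, hND, hNX⟩ := B.normalizer_D y u hy hyc hu2 hinv
  refine ⟨Subgroup.centralizer ({z} : Set G), Subgroup.centralizer ({y} : Set G), ?_, ?_, ?_, ?_, ?_,
    hNQ, ?_⟩
  · rw [hQ, hcard]
    have hq1 : q - 1 = 2 * d := by omega
    have hq2 : q + 1 = 2 * (d + 1) := by omega
    rw [hq1, hq2, ← hdk]
    ring
  · intro x hx hx1
    exact (C.cent_Q_eq z x hz hzc hx hx1).2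
  · refine ⟨⟨fun a b => Subtype.ext ?_⟩⟩
    show (a : G) * (b : G) = (b : G) * (a : G)
    have ha := hinv a a.2
    have hb := hinv b b.2
    have hab := hinv ((a : G) * (b : G)) (mul_mem a.2 b.2)
    have e : u * ((a : G) * (b : G)) * u⁻¹ = (u * (a : G) * u⁻¹) * (u * (b : G) * u⁻¹) := by group
    rw [e, ha, hb, mul_inv_rev] at hab
    -- `a⁻¹ * b⁻¹ = b⁻¹ * a⁻¹`
    have := congrArg (fun g : G => g⁻¹) hab
    simpa [mul_inv_rev] using this.symm
  · rw [hQ, hD]; omega
  · apply Disjoint.eq_bot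
    apply Subgroup.disjoint_of_coprime_natCard
    rw [hQ, hD]
    exact B.arith.2.2.2.2.1
  · intro X hX hXne
    exact ⟨hNX X hX hXne, u, hu2, hunot, hinv, hND⟩

end Cfsg.Agent.Helper66.BSW
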